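import Cfsg.Agent.Lib.SC.Basic
import Cfsg.Agent.Lib.Transfer.Thompson

/-!
# Solvability criteria
-/

set_option autoImplicit false

namespace Cfsg.Lib.FT
open Subgroup Cfsg.Lib
open scoped commutatorElement

variable {G : Type*} [Group G]

theorem sc_solv_of_top (h : Group.IsSolvable (⊤ : Subgroup G)) : Group.IsSolvable G :=
  Group.isSolvable_of_surjective (f := (⊤ : Subgroup G).subtype) fun x => ⟨⟨x, trivial⟩, rfl⟩

theorem sc_solv_of_commutator {Y : Subgroup G} (h : Group.IsSolvable ↥⁅Y, Y⁆) : Group.IsSolvable Y := by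
  refine isSolvable_of_normal_quotient (commutator Y) ?_ ?_
  · have e : (commutator Y).map Y.subtype = ⁅Y, Y⁆ := by
      rw [commutator_def, map_commutator, ← MonoidHom.range_eq_map, range_subtype]
    have : Group.IsSolvable ↥((commutator Y).map Y.subtype) := by rw [e]; exact h
    exact Group.isSolvable_of_isSolvable_injective
      (f := ((commutator Y).equivMapOfInjective _ Y.subtype_injective).toMonoidHom)
      ((commutator Y).equivMapOfInjective _ Y.subtype_injective).injective
  · exact Group.isSolvable_of_comm fun a b => (Abelianization.commGroup Y).mul_comm a b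

variable [Finite G]

theorem sc_solv_oddCore : Group.IsSolvable (pPrimeCore 2 G) :=
  isSolvable_of_not_two_dvd not_dvd_card_pPrimeCore

theorem sc_solv_of_npc {M : Subgroup G} (h : HasNormalPComplement 2 M) : Group.IsSolvable M := by
  obtain ⟨S, hS⟩ := exists_isSylowIn 2 M
  have := (isComplIn_of_hasNormalPComplement h hS).sup_eq
  rw [← this, sup_comm]
  exact isSolvable_sup_of_le_normalizer (hS.le.trans (le_normalizer_piCoreOf _ _))
    (isSolvable_of_isPGroup hS.isPGroup)
    (isSolvable_of_not_two_dvd (isPiSubgroup_compl_singleton_iff.1 (isPiSubgroup_piCoreOf _ M)))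

theorem sc_solv_of_normal_sup {S : Subgroup G} (hS : IsSylowIn 2 S ⊤) (h : (S ⊔ oddCore G).Normal) :
    Group.IsSolvable G := by
  refine isSolvable_of_normal_quotient (S ⊔ oddCore G)
    (isSolvable_sup_of_normal _ _ (isSolvable_of_isPGroup hS.isPGroup) sc_solv_oddCore)
    (odd_order_solvable ?_)
  rw [← Nat.not_even_iff_odd, even_iff_two_dvd]
  intro hd
  refine hS.not_dvd_relIndex ?_
  rw [relIndex_top_right]
  exact hd.trans (index_dvd_of_le le_sup_left)

theorem sc_solv_of_zstar {t : G} (ht : t ^ 2 = 1) (h : InZStar 2 t) (hs : Group.IsSolvable C1[t]) :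
    Group.IsSolvable G := by
  refine sc_solv_of_top ?_
  rw [← pg_centralizer_sup_of_inZStar (by rw [← sq, ht]) h]
  exact isSolvable_sup_of_normal _ _ hs sc_solv_oddCore

/-- elementary abelian Sylow 2-subgroup of rank at least 3 with two classes and semiregular automizer -/
theorem sc_solv_of_free {Q : Subgroup G} (hQ : IsSylowIn 2 Q ⊤) (hE : IsElementaryAbelian 2 Q)
    (h8 : 2 ^ 3 ≤ Nat.card Q)
    (hf : ∀ n ∈ N[Q], ∀ u ∈ Q, u ≠ 1 → n * u * n⁻¹ = u → n ^ 2 ∈ C[Q])
    {a b : G} (ha : a ∈ Q) (hb : b ∈ Q) (ha1 : a ≠ 1) (hb1 : b ≠ 1) (hab : ¬ IsConj a b) :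
    Group.IsSolvable G := by
  refine sc_solv_of_normal_sup hQ ((scl_of_isSylowIn hQ).normal_sup hE h8 (fun e he h1 => ?_) ha hb ha1 hb1 hab)
  have hle : Q ≤ C1[e] := (elemAb_le_centralizer hE).trans (centralizer_le_singleton he)
  have hS := hQ.mono hle le_top
  refine isPConstrained_of_isSolvable (sc_solv_of_npc ((hasNormalPComplement_iff_of_comm hS hE.1).2
    ((normalizer_le_centralizer_iff_of_comm hS hE.1).1 fun n hn => ?_)))
  have h2 := hf n hn.2 e he h1 (by rw [mem_centralizer_singleton_iff.1 hn.1]; group)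
  have hodd : Odd (C[Q].relIndex N[Q]) := by
    rw [← Nat.not_even_iff_odd, even_iff_two_dvd]
    intro hd
    refine (hQ.mono Subgroup.le_normalizer le_top).not_dvd_relIndex (hd.trans ?_)
    exact relIndex_dvd_of_le_left _ (elemAb_le_centralizer hE)
  have : (C[Q].subgroupOf N[Q]).Normal :=
    normal_subgroupOf_of_le_normalizer (le_normalizer_centralizer le_rfl)
  have h3 : n ^ C[Q].relIndex N[Q] ∈ C[Q] :=
    mem_subgroupOf.1 (pow_index_mem (H := C[Q].subgroupOf N[Q]) ⟨n, hn.2⟩)
  obtain ⟨k, hk⟩ := hodd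
  rw [hk, pow_succ, pow_mul] at h3
  exact (C[Q].mul_mem_cancel_left (C[Q].pow_mem h2 k)).1 h3

/-- `t` is isolated modulo the central involution `b` -/
theorem sc_solv_of_isolated_mod {S : Subgroup G} (hS : IsSylowIn 2 S ⊤) {b t : G} (hb : b ∈ center G)
    (hb2 : b ^ 2 = 1) (ht : t ∈ S) (ht2 : t ^ 2 = 1)
    (h : ∀ g : G, g * t * g⁻¹ ∈ S → g * t * g⁻¹ * t⁻¹ ∈ zpowers b) (hs : Group.IsSolvable C1[t]) :
    Group.IsSolvable G := by
  have hZ : zpowers b ≤ center G := zpowers_le.2 hb
  have hn : (zpowers b).Normal := ⟨fun x hx g => by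
    rw [mem_center_iff.1 (hZ hx) g, mul_inv_cancel_right]; exact hx⟩
  have hbp : IsPGroup 2 (zpowers b) := elemAb_isPGroup (elemAb_zpowers hb2)
  have hbS : zpowers b ≤ S := hS.le_of_normalizes hbp le_top le_normalizer_of_normal
  set f := QuotientGroup.mk' (zpowers b) with hf
  have hsur : Function.Surjective f := QuotientGroup.mk'_surjective _
  have hker : f.ker = zpowers b := QuotientGroup.ker_mk' _
  have h1 := hS.map f
  rw [map_top_of_surjective _ hsur] at h1
  obtain ⟨S', hS'⟩ := h1.exists_sylow_top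
  have h2 : (f t) ^ 2 = 1 := by rw [← map_pow, ht2, map_one]
  refine isSolvable_of_normal_quotient (zpowers b) (isSolvable_of_isPGroup hbp)
    (sc_solv_of_zstar h2 (zstar_of_sylow S' h2 (hS' ▸ mem_map_of_mem f ht) fun g hg => ?_) ?_)
  · obtain ⟨g, rfl⟩ := hsur g
    have h3 : g * t * g⁻¹ ∈ S := by
      rw [← sup_eq_left.2 hbS, ← hker, ← comap_map_eq, mem_comap, ← hS']
      simpa using hg
    have h4 := h g h3
    rw [← hker, MonoidHom.mem_ker] at h4
    rw [← mul_inv_eq_one]
    simpa using h4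
  · rw [← map_comap_eq_self_of_surjective hsur C1[f t]]
    refine isSolvable_map _ _ (sc_solv_of_commutator (isSolvable_of_le ?_ hs))
    have h3 : ⁅C1[f t].comap f, zpowers t⁆ ≤ center G := by
      refine le_trans (le_trans ?_ hker.le) hZ
      rw [← Subgroup.map_eq_bot_iff, map_commutator, map_comap_eq_self_of_surjective hsur,
        MonoidHom.map_zpowers, commutator_eq_bot_iff_le_centralizer, centralizer_zpowers]
    rw [← centralizer_zpowers t, ← commutator_eq_bot_iff_le_centralizer]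
    have h4 : ⁅⁅C1[f t].comap f, zpowers t⁆, C1[f t].comap f⁆ = ⊥ :=
      commutator_eq_bot_iff_le_centralizer.2 (h3.trans (center_le_centralizer _))
    exact commutator_commutator_eq_bot_of_rotate h4 (by rwa [commutator_comm (zpowers t)])

/-- transfer onto a quotient of order 2 -/
theorem exists_index_two_of_closed {S Q : Subgroup G} (hS : IsSylowIn 2 S ⊤) (h : Q.relIndex S = 2)
    (hc : ∀ x ∈ S, ∀ g : G, g * x * g⁻¹ ∈ Q → x ∈ Q) :
    ∃ H : Subgroup G, H.index = 2 ∧ ∀ x ∈ S, (x ∈ H ↔ x ∈ Q) := by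
  obtain ⟨φ, hφ⟩ := exists_sign_hom h
  have hfus : ∀ (x : S) (g : G) (h : g * x * g⁻¹ ∈ S), φ ⟨g * x * g⁻¹, h⟩ = φ x := by
    intro x g hg
    by_cases hx : (x : G) ∈ Q
    · rw [(hφ x).1.2 hx, (hφ _).1]
      exact hc _ hg g⁻¹ (by simpa [mul_assoc] using hx)
    · rw [(hφ x).2.2 hx, (hφ _).2]
      exact fun e => hx (hc _ x.2 g e)
  have hodd : Odd S.index := by
    rw [← Nat.not_even_iff_odd, even_iff_two_dvd, ← relIndex_top_right]
    exact hS.not_dvd_relIndex
  have key : ∀ x : S, MonoidHom.transfer φ x = φ x := fun x => by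
    rw [transfer_eq_pow_of_fusion φ hfus x]
    rcases Int.units_eq_one_or (φ x) with e | e <;> rw [e]
    · exact one_pow _
    · exact hodd.neg_one_pow
  refine ⟨(MonoidHom.transfer φ).ker, ?_, fun x hx => ?_⟩
  · have hne : ¬ S ≤ Q := fun e => by rw [relIndex_eq_one.2 e] at h; omega
    obtain ⟨x, hx, hxQ⟩ := SetLike.not_le_iff_exists.1 hne
    rw [index_ker, MonoidHom.range_eq_top.2, card_top, Nat.card_eq_fintype_card, Fintype.card_units_int]
    intro u
    rcases Int.units_eq_one_or u with rfl | rfl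
    · exact ⟨1, map_one _⟩
    · exact ⟨x, (key ⟨x, hx⟩).trans ((hφ _).2.2 hxQ)⟩
  · rw [MonoidHom.mem_ker, key ⟨x, hx⟩, (hφ _).1]

theorem sc_solv_of_index_two {H : Subgroup G} (h : H.index = 2) (hs : Group.IsSolvable H) :
    Group.IsSolvable G := by
  have := normal_of_index_eq_two h
  refine isSolvable_of_normal_quotient H hs (isSolvable_of_isPGroup (p := 2) (IsPGroup.of_card (n := 1) ?_))
  exact h

end Cfsg.Lib.FT
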