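import Cfsg.Agent.Lib.Signalizer.SFT.Four
import Cfsg.Agent.Lib.PGroup.ZStarCor

/-!
# Strongly closed abelian 2-subgroups with 2-constrained involution centralizers
-/

set_option autoImplicit false

namespace Cfsg.Lib.FT
open Subgroup Cfsg.Lib
open scoped commutatorElement

variable {G : Type*} [Group G]

/-- `A` is strongly closed in every 2-subgroup containing it -/
def SCl (A : Subgroup G) : Prop :=
  ∀ P : Subgroup G, IsPGroup 2 P → A ≤ P → ∀ x ∈ P, ∀ g : G, g * x * g⁻¹ ∈ A → x ∈ A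

variable {A : Subgroup G}

theorem SCl.subgroupOf (h : SCl A) {M : Subgroup G} (hM : A ≤ M) : SCl (A.subgroupOf M) := by
  intro P hP hAP x hx g hg
  refine h (P.map M.subtype) (hP.map _) ?_ x (mem_map_of_mem _ hx) g hg
  rw [← map_subgroupOf_eq_of_le hM]
  exact map_mono hAP

variable [Finite G]

theorem SCl.conj_eq (h : SCl A) {P : Subgroup G} (hP : IsPGroup 2 P) (hAP : A ≤ P) {g : G}
    (hg : g •ᶜ A ≤ P) : g ∈ N[A] := by
  refine mem_normalizer_iff_map_conj.2 (eq_of_le_of_card_ge (fun x hx => ?_) (card_map_conj _ _).ge)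
  refine h P hP hAP x (hg hx) g⁻¹ ?_
  obtain ⟨y, hy, rfl⟩ := hx
  simpa [mul_assoc] using hy

theorem SCl.le_normalizer (h : SCl A) {P : Subgroup G} (hP : IsPGroup 2 P) (hAP : A ≤ P) :
    P ≤ N[A] := fun _ hx => h.conj_eq hP hAP (conj_le_of_mem hAP hx)

theorem SCl.of_sylow {S : Subgroup G} (hS : IsSylowIn 2 S ⊤) 
    (h : ∀ x ∈ S, ∀ g : G, g * x * g⁻¹ ∈ A → x ∈ A) : SCl A := by
  intro P hP hAP x hx g hg
  obtain ⟨k, -, hk⟩ := hS.exists_conj_le hP le_top
  have hkA : k ∈ N[A] := by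
    refine mem_normalizer_iff_map_conj.2 (eq_of_le_of_card_ge (fun y hy => ?_) (card_map_conj _ _).ge)
    refine h y (hk (map_mono hAP hy)) k⁻¹ ?_
    obtain ⟨y, hy, rfl⟩ := hy
    simpa [mul_assoc] using hy
  have h1 : k * x * k⁻¹ ∈ A := h _ (hk (conj_mem_conj hx k)) (g * k⁻¹) (by simpa [mul_assoc] using hg)
  exact (mem_normalizer_iff.1 hkA x).2 h1

theorem scl_of_isSylowIn {S : Subgroup G} (hS : IsSylowIn 2 S ⊤) : SCl S :=
  SCl.of_sylow hS fun _ hx _ _ => hx

/-- `N(A)` controls fusion in `A` -/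
theorem SCl.fusion (h : SCl A) (hc : IsMulCommutative A) (h2 : IsPGroup 2 A) {M : Subgroup G}
    (hM : A ≤ M) {u g : G} (hg : g ∈ M) (hu : u ∈ A) (hgu : g * u * g⁻¹ ∈ A) :
    ∃ n ∈ M ⊓ N[A], g * u * g⁻¹ = n * u * n⁻¹ := by
  have hA := isMulCommutative_iff_le_centralizer.1 hc
  have h1 : A ≤ M ⊓ C1[g * u * g⁻¹] := le_inf hM (hA.trans (centralizer_le_singleton hgu))
  have h3 : g •ᶜ A ≤ M ⊓ C1[g * u * g⁻¹] := by
    refine le_inf (conj_le_of_mem hM hg) ?_
    rw [← conj_centralizer_singleton]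
    exact map_mono (hA.trans (centralizer_le_singleton hu))
  obtain ⟨P, hP, hAP⟩ := exists_isSylowIn_ge h2 h1
  obtain ⟨k, hk, hle⟩ := hP.exists_conj_le (isPGroup_conj_iff.2 h2) h3
  have hle' : (k * g) •ᶜ A ≤ P := by rw [← conj_conj]; exact hle
  refine ⟨k * g, ⟨M.mul_mem hk.1 hg, h.conj_eq hP.isPGroup hAP hle'⟩, ?_⟩
  have := mem_centralizer_singleton_iff.1 hk.2
  calc g * u * g⁻¹ = k * (g * u * g⁻¹) * k⁻¹ := by rw [this]; group
    _ = _ := by group

theorem SCl.map (h : SCl A) (h2 : IsPGroup 2 A) {G' : Type*} [Group G'] (f : G →* G')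
    (hs : Function.Surjective f) (hk : ¬ 2 ∣ Nat.card f.ker) : SCl (A.map f) := by
  intro P hP hAP x hx g hg
  obtain ⟨g, rfl⟩ := hs g
  obtain ⟨Q, hQ, hAQ⟩ := exists_isSylowIn_ge h2 (map_le_iff_le_comap.1 hAP)
  have h1 := hQ.map f
  rw [map_comap_eq_self_of_surjective hs] at h1
  have h3 : P ≤ Q.map f := (h1.maximal P hP le_rfl h1.le).le
  obtain ⟨y, hy, rfl⟩ := h3 hx
  have h4 : g * y * g⁻¹ ∈ A ⊔ f.ker := by
    rw [← comap_map_eq, mem_comap]
    simpa using hg
  have h5 : IsSylowIn 2 A (A ⊔ f.ker) := by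
    refine IsSylowIn.of_not_dvd_relIndex le_sup_left h2 fun hd => hk (hd.trans ?_)
    rw [relIndex_sup_of_le_normalizer le_normalizer_of_normal]
    exact relIndex_dvd_card _ _
  have h6 : IsPGroup 2 (zpowers (g * y * g⁻¹)) := by
    rw [← conj_zpowers]
    exact isPGroup_conj_iff.2 (hQ.isPGroup.to_le (zpowers_le.2 hy))
  obtain ⟨k, -, hk'⟩ := h5.exists_conj_le h6 (zpowers_le.2 h4)
  refine mem_map_of_mem f (h Q hQ.isPGroup hAQ y hy (k * g) ?_)
  have := hk' (conj_mem_conj (mem_zpowers _) k)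
  simpa [mul_assoc] using this

/-- in a group of characteristic 2 a strongly closed abelian subgroup is normal -/
theorem SCl.normal_of_char (h : SCl A) (hc : IsMulCommutative A) (h2 : IsPGroup 2 A)
    (hG : C[pCore 2 G] ≤ pCore 2 G) : A.Normal := by
  have hA := isMulCommutative_iff_le_centralizer.1 hc
  have hP : IsPGroup 2 ↥(A ⊔ pCore 2 G) := h2.to_sup_of_normal_right isPGroup_pCore
  have hmem : ∀ x ∈ pCore 2 G, ∀ g : G, g * x * g⁻¹ ∈ A → x ∈ A := fun x hx =>
    h _ hP le_sup_left x (mem_sup_right hx)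
  set Z := A ⊓ pCore 2 G with hZ
  have hZn : Z.Normal := ⟨fun x hx g => by
    have h1 := (inferInstance : (pCore 2 G).Normal).conj_mem x hx.2 g
    exact ⟨hmem _ h1 g⁻¹ (by simpa [mul_assoc] using hx.1), h1⟩⟩
  set K : Subgroup G := (C[(pCore 2 G).map (QuotientGroup.mk' Z)]).comap (QuotientGroup.mk' Z) with hK
  have hKn : K.Normal := by
    have : ((pCore 2 G).map (QuotientGroup.mk' Z)).Normal :=
      Normal.map inferInstance _ (QuotientGroup.mk'_surjective Z)
    exact Normal.comap inferInstance _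
  have key : ∀ X : Subgroup G, X ≤ K ↔ ⁅pCore 2 G, X⁆ ≤ Z := by
    intro X
    rw [hK, ← map_le_iff_le_comap, ← commutator_eq_bot_iff_le_centralizer, ← map_commutator,
      Subgroup.map_eq_bot_iff, QuotientGroup.ker_mk', commutator_comm]
  have hAK : A ≤ K ⊓ C[Z] := by
    refine le_inf ((key A).2 (le_inf ?_ (commutator_le_left _ _))) (hA.trans (centralizer_mono inf_le_left))
    exact le_normalizer_iff_commutator_le_right.1 (le_sup_right.trans (h.le_normalizer hP le_sup_left))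
  have hle : A ≤ pCore 2 G := by
    refine hAK.trans (le_pCore inferInstance (pg_isPGroup_of_forall_prime_order fun x hx hpr => ?_))
    by_contra hne
    have hd : ¬ 2 ∣ Nat.card (zpowers x) := by
      rw [Nat.card_zpowers, Nat.prime_dvd_prime_iff_eq Nat.prime_two hpr]
      exact fun e => hne e.symm
    have hco : CoprimeAct (zpowers x) (pCore 2 G) :=
      CoprimeAct.of_isPGroup_right isPGroup_pCore hd le_normalizer_of_normal
    have h1 : zpowers x ≤ C[pCore 2 G] := bg1_9' hco ((key _).1 (zpowers_le.2 hx.1))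
      (le_centralizer_iff.1 (zpowers_le.2 hx.2))
    refine hd (dvd_card_of_isPGroup_of_ne_bot (isPGroup_pCore.to_le (h1.trans hG)) ?_)
    rw [Ne, zpowers_eq_bot]
    rintro rfl
    simp at hpr
    exact Nat.not_prime_one hpr
  rwa [hZ, inf_eq_left.2 hle] at hZn

theorem isSylowIn_sup_of_odd {K : Subgroup G} (h2 : IsPGroup 2 A) (hK : ¬ 2 ∣ Nat.card K)
    (hn : A ≤ N[K]) : IsSylowIn 2 A (A ⊔ K) := by
  refine IsSylowIn.of_not_dvd_relIndex le_sup_left h2 fun hd => hK (hd.trans ?_)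
  rw [relIndex_sup_of_le_normalizer hn]
  exact relIndex_dvd_card _ _

theorem SCl.normal_of_constrained (h : SCl A) (hc : IsMulCommutative A) (h2 : IsPGroup 2 A)
    (hG : IsPConstrained 2 G) : (A ⊔ pPrimeCore 2 G).Normal := by
  have hk : ¬ 2 ∣ Nat.card (QuotientGroup.mk' (pPrimeCore 2 G)).ker := by
    rw [QuotientGroup.ker_mk']
    exact not_dvd_card_pPrimeCore
  have h1 := (h.map h2 _ (QuotientGroup.mk'_surjective _) hk).normal_of_char
    inferInstance (h2.map _) (isPConstrained_iff.1 hG)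
  have := h1.comap (QuotientGroup.mk' (pPrimeCore 2 G))
  rwa [comap_map_eq, QuotientGroup.ker_mk'] at this

theorem SCl.le_sup_of_constrained (h : SCl A) (hc : IsMulCommutative A) (h2 : IsPGroup 2 A)
    {M : Subgroup G} (hM : A ≤ M) (hG : IsPConstrained 2 M) :
    M ≤ piCoreOf {2}ᶜ M ⊔ (M ⊓ N[A]) := by
  have h1 := (h.subgroupOf hM).normal_of_constrained inferInstance
    (h2.comap_subtype) hG
  have h3 : M ≤ N[A ⊔ piCoreOf {2}ᶜ M] := by
    have := le_normalizer_map (H := A.subgroupOf M ⊔ pPrimeCore 2 M) M.subtype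
    rwa [normalizer_eq_top, ← MonoidHom.range_eq_map, range_subtype, Subgroup.map_sup,
      map_subgroupOf_eq_of_le hM, ← piCoreOf_compl_singleton] at this
  have h4 := (isSylowIn_sup_of_odd h2 (isPiSubgroup_compl_singleton_iff.1 (isPiSubgroup_piCoreOf _ M))
    (hM.trans (le_normalizer_piCoreOf _ _))).le_sup_normalizer (sup_le hM (piCoreOf_le _ _)) h3
  refine h4.trans (sup_le (sup_le ?_ le_sup_left) le_sup_right)
  exact le_sup_of_le_right (le_inf hM Subgroup.le_normalizer)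

/-- two non-conjugate involutions are centralized by an involution `u` with `a * u` conjugate to one of them -/
theorem exists_central_of_not_isConj {a b : G} (ha : a ^ 2 = 1) (hb : b ^ 2 = 1) (h : ¬ IsConj a b) :
    ∃ u : G, u ^ 2 = 1 ∧ u ≠ 1 ∧ Commute a u ∧ Commute b u ∧
      (IsConj a (a * u) ∨ IsConj b (a * u)) ∧ (IsConj a (b * u) ∨ IsConj b (b * u)) := by
  have h2 : 2 ∣ orderOf (a * b) := by
    by_contra h2
    obtain ⟨j, hj⟩ := exists_conj_of_odd ha hb h2
    exact h (isConj_iff.2 ⟨_, hj⟩).symm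
  obtain ⟨m, -, hm, hm1⟩ := exists_half_of_two_dvd h2
  have hab := conj_mul_eq_inv_of_sq ha hb
  have hba : b * (a * b) * b⁻¹ = (a * b)⁻¹ := by
    have h1 : a⁻¹ = a := by rw [inv_eq_iff_mul_eq_one, ← sq, ha]
    have h2 : b⁻¹ = b := by rw [inv_eq_iff_mul_eq_one, ← sq, hb]
    rw [mul_inv_rev, h1, mul_assoc, mul_assoc, mul_inv_cancel, mul_one, h2]
  have hc : Commute b ((a * b) ^ m) := commute_pow_of_inverts hba hm
  refine ⟨(a * b) ^ m, hm, hm1, commute_pow_of_inverts hab hm, hc, ?_, ?_⟩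
  · obtain ⟨j, hj⟩ := exists_conj_mul_pow ha hb m
    split_ifs at hj
    · exact Or.inl (isConj_iff.2 ⟨_, hj⟩)
    · exact Or.inr (isConj_iff.2 ⟨_, hj⟩)
  · obtain ⟨j, hj⟩ := exists_conj_mul_pow hb ha m
    have e : (b * a) ^ m = (a * b) ^ m := by
      have h1 : a⁻¹ = a := by rw [inv_eq_iff_mul_eq_one, ← sq, ha]
      have h2 : b⁻¹ = b := by rw [inv_eq_iff_mul_eq_one, ← sq, hb]
      have : b * a = (a * b)⁻¹ := by rw [mul_inv_rev, h1, h2]
      rw [this, inv_pow, inv_eq_iff_mul_eq_one, ← sq, hm]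
    rw [e] at hj
    split_ifs at hj
    · exact Or.inr (isConj_iff.2 ⟨_, hj⟩)
    · exact Or.inl (isConj_iff.2 ⟨_, hj⟩)

/-- an involution `u` commuting with `a ∈ A` such that `a * u` is fused into `A` lies in the conjugate of `A`
under `C(a)` -/
theorem SCl.exists_conj_mem (h : SCl A) (hA : IsElementaryAbelian 2 A) {a u : G} (ha : a ∈ A)
    (hu : u ^ 2 = 1) (hc : Commute a u) {e : G} (he : e ∈ A) (hcj : IsConj e (a * u)) :
    ∃ k ∈ C1[a], k * u * k⁻¹ ∈ A := by
  have h1 : A ≤ C1[a] := (elemAb_le_centralizer hA).trans (centralizer_le_singleton ha)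
  obtain ⟨P, hP, hAP⟩ := exists_isSylowIn_ge (elemAb_isPGroup hA) h1
  have huC : u ∈ C1[a] := mem_centralizer_singleton_iff.2 hc.symm.eq
  obtain ⟨k, hk, hle⟩ := hP.exists_conj_le (elemAb_isPGroup (elemAb_zpowers hu)) (zpowers_le.2 huC)
  have h3 : k * u * k⁻¹ ∈ P := hle (conj_mem_conj (mem_zpowers _) k)
  have hka := mem_centralizer_singleton_iff.1 hk
  obtain ⟨c, hc'⟩ := isConj_iff.1 hcj
  have h4 : a * (k * u * k⁻¹) ∈ A := by
    refine h P hP.isPGroup hAP _ (P.mul_mem (hAP ha) h3) (c⁻¹ * k⁻¹) ?_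
    have : c⁻¹ * k⁻¹ * (a * (k * u * k⁻¹)) * (c⁻¹ * k⁻¹)⁻¹ = e := by
      calc _ = c⁻¹ * (k⁻¹ * (a * k) * u) * c := by group
        _ = c⁻¹ * (a * u) * c := by rw [← hka]; group
        _ = e := by rw [← hc']; group
    rwa [this]
  exact ⟨k, hk, (A.mul_mem_cancel_left ha).1 h4⟩

/-- **strongly closed elementary abelian subgroups** of rank at least 3 with constrained centralizers and two
classes are normal modulo the core -/
theorem SCl.normal_sup (h : SCl A) (hA : IsElementaryAbelian 2 A) (h8 : 2 ^ 3 ≤ Nat.card A)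
    (hc : ∀ e ∈ A, e ≠ 1 → IsPConstrained 2 C1[e]) {a b : G} (ha : a ∈ A) (hb : b ∈ A)
    (ha1 : a ≠ 1) (hb1 : b ≠ 1) (hab : ¬ IsConj a b) : (A ⊔ oddCore G).Normal := by
  have hAC : ∀ e ∈ A, A ≤ C1[e] := fun e he =>
    (elemAb_le_centralizer hA).trans (centralizer_le_singleton he)
  have hsq : ∀ e ∈ A, e ^ 2 = 1 := hA.2
  have hθ : IsSolvableSignalizerFunctor 2 A (centralizerPPrimeCore 2) :=
    cpc_sig hA (fun e _ _ => isSolvable_of_not_two_dvd (cpc_not_dvd e)) fun e he _ f hf hf1 =>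
      cpc_inf_le_of_constrained (hc f hf hf1) (elemAb_isPGroup (elemAb_zpowers (hsq e he))) (hAC f hf he)
  have hW := sigClosure_mem_two hA h8 hθ
  set W := signalizerClosure A (centralizerPPrimeCore 2) with hWdef
  have hNW : N[A] ≤ N[W] := normalizer_le_normalizer_cpcClosure A
  set M := W ⊔ N[A] with hM
  have hCM : ∀ e ∈ A, e ≠ 1 → C1[e] ≤ M := fun e he h1 => by
    refine (h.le_sup_of_constrained hA.1 (elemAb_isPGroup hA) (hAC e he) (hc e he h1)).trans
      (sup_le_sup ?_ inf_le_right)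
    rw [← centralizerPPrimeCore_eq]
    exact le_sigClosure he h1
  have hfix : ∀ e ∈ A, e ≠ 1 → ∀ g : G, g * e * g⁻¹ ∈ A → g ∈ M := fun e he h1 g hg => by
    obtain ⟨n, hn, e1⟩ := h.fusion hA.1 (elemAb_isPGroup hA) le_top (mem_top g) he hg
    have : n⁻¹ * g ∈ C1[e] := by
      rw [mem_centralizer_singleton_iff]
      calc n⁻¹ * g * e = n⁻¹ * (g * e * g⁻¹) * g := by group
        _ = e * (n⁻¹ * g) := by rw [e1]; group
    exact (M.mul_mem_cancel_left (M.inv_mem (mem_sup_right hn.2))).1 (hCM e he h1 this)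
  have htop : ∀ g : G, g ∈ M := by
    intro g
    have hb' : (g * b * g⁻¹) ^ 2 = 1 := by rw [conj_pow, hsq b hb]; group
    have hbb : IsConj b (g * b * g⁻¹) := isConj_iff.2 ⟨g, rfl⟩
    obtain ⟨u, hu, hu1, h1, h2, h3, h4⟩ := exists_central_of_not_isConj (hsq a ha) hb'
      (fun e => hab (e.trans hbb.symm))
    have k1 : ∃ k ∈ C1[a], k * u * k⁻¹ ∈ A := by
      rcases h3 with h3 | h3
      · exact h.exists_conj_mem hA ha hu h1 ha h3
      · exact h.exists_conj_mem hA ha hu h1 hb (hbb.trans h3)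
    have hu' : (g⁻¹ * u * g) ^ 2 = 1 := by
      have := conj_pow (a := g⁻¹) (b := u) (i := 2)
      rw [inv_inv] at this
      rw [this, hu]; group
    have hc' : Commute b (g⁻¹ * u * g) := by
      have := h2.eq
      calc b * (g⁻¹ * u * g) = g⁻¹ * (g * b * g⁻¹ * u) * g := by group
        _ = _ := by rw [this]; group
    have hcj : IsConj (g * b * g⁻¹ * u) (b * (g⁻¹ * u * g)) := isConj_iff.2 ⟨g⁻¹, by group⟩
    have k2 : ∃ k ∈ C1[b], k * (g⁻¹ * u * g) * k⁻¹ ∈ A := by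
      rcases h4 with h4 | h4
      · exact h.exists_conj_mem hA hb hu' hc' ha (h4.trans hcj)
      · exact h.exists_conj_mem hA hb hu' hc' hb ((hbb.trans h4).trans hcj)
    obtain ⟨k, hk, hk'⟩ := k1
    obtain ⟨l, hl, hl'⟩ := k2
    have h5 := hfix _ hk' (by simpa using hu1) (l * g⁻¹ * k⁻¹) (by simpa [mul_assoc] using hl')
    have h6 := (M.mul_mem_cancel_right (M.inv_mem (hCM a ha ha1 hk))).1 h5
    exact M.inv_mem_iff.1 ((M.mul_mem_cancel_left (hCM b hb hb1 hl)).1 h6)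
  have hWn : W.Normal := normalizer_eq_top_iff.1 (top_le_iff.1 fun g _ =>
    (sup_le Subgroup.le_normalizer hNW : M ≤ N[W]) (htop g))
  have hWO : W ≤ oddCore G := le_pPrimeCore hWn
    ((Nat.Prime.coprime_iff_not_dvd Nat.prime_two).2 (sigFam_not_dvd hW)).symm
  refine normalizer_eq_top_iff.1 (top_le_iff.1 fun g _ => (sup_le ?_ ?_ : M ≤ _) (htop g))
  · exact (hWO.trans le_sup_right).trans Subgroup.le_normalizer
  · exact le_normalizer_sup le_rfl le_normalizer_of_normal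

end Cfsg.Lib.FT
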